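import Groth.Agent.SplitRibbon7.Alg
import Groth.Agent.RelVALib.VBEmbed
import Groth.Agent.ProjLib.AffAlgLemmas
import Groth.Agent.SerreDual.QCohCat
import Groth.Agent.DQCoh.Compact
import Groth.Agent.RelSpecLib.Basic

/-! # Generating families and embeddings of affine morphisms into vector bundles -/

set_option autoImplicit false
set_option linter.style.haveILetI false
set_option backward.isDefEq.respectTransparency false
set_option backward.isDefEq.respectTransparency.types false
set_option maxHeartbeats 800000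

universe u

open CategoryTheory CategoryTheory.Limits AlgebraicGeometry TopologicalSpace Opposite
open Groth.Agent.Coherent

noncomputable section

namespace Groth.Agent.ResGen7

variable {X Y : Scheme.{u}}

theorem isQCoh_sigma {κ : Type u} (F : κ → X.Modules) (hF : ∀ k, Coh.IsQCoh (F k)) : Coh.IsQCoh (∐ F) :=
  SerreDual.isQCoh_colimit X (Discrete.functor F) fun ⟨k⟩ => hF k

section embed

variable (f : Y ⟶ X) [IsAffineHom f]

theorem isClosedImmersion_specMap_of_cover {A B : RelSpec.QCAlg X} (ψ : A ⟶ B) {σ : Type u}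
    (U : σ → X.affineOpens) (hU : ⨆ s, (U s).1 = ⊤)
    (h : ∀ s, Function.Surjective (ψ.hom.app (op (U s).1)).hom) :
    IsClosedImmersion (RelSpec.QCAlg.specMap ψ) := by
  refine IsZariskiLocalAtTarget.of_iSup_eq_top (P := @IsClosedImmersion)
    (fun s => (A.ι (U s).1 (U s).2).opensRange) ?_ fun s => ?_
  · simp only [← RelSpec.QCAlg.π_preimage, ← Scheme.Hom.preimage_iSup, hU, Scheme.Hom.preimage_top]
  · rw [MorphismProperty.arrow_mk_iso_iff @IsClosedImmersion
      (morphismRestrictOpensRange (RelSpec.QCAlg.specMap ψ) (A.ι (U s).1 (U s).2))]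
    have hpb := (SymAlgLib.specMap_isPullback ψ (U s).1 (U s).2).flip
    rw [← hpb.isoPullback_inv_snd, MorphismProperty.cancel_left_of_respectsIso @IsClosedImmersion]
    exact IsClosedImmersion.spec_of_surjective _ (h s)

theorem exists_embed {κ : Type u} (F : κ → X.Modules) (hF : ∀ k, Coh.IsQCoh (F k))
    (p : ∐ F ⟶ (RelSpec.QCAlg.directImage f).toModule) {σ : Type u}
    (U : σ → X.affineOpens) (hU : ⨆ s, (U s).1 = ⊤)
    (h : ∀ s, Subring.closure (Set.range ((RelSpec.QCAlg.directImage f).str.app (op (U s).1)).hom ∪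
      Set.range (fun x : Γ(∐ F, (U s).1) =>
        (p.app (U s).1 x : (RelSpec.QCAlg.directImage f).presheaf.obj (op (U s).1)))) = ⊤) :
    ∃ (B : RelSpec.QCAlg X) (φ : (∐ F) ⟶ B.toModule) (c : Y ⟶ B.spec),
      RelSpec.IsSymAlg (∐ F) B φ ∧ IsClosedImmersion c ∧ c ≫ B.π = f := by
  haveI : Coh.IsQCoh (∐ F) := isQCoh_sigma F hF
  obtain ⟨ψ, hψ, -⟩ := SymAlgLib.isSymAlg_symAlg (∐ F) (RelSpec.QCAlg.directImage f) p
  have := isClosedImmersion_specMap_of_cover ψ U hU fun s b => by
    refine (Subring.closure_le (t := (ψ.hom.app (op (U s).1)).hom.range)).2 ?_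
      ((h s).ge (Subring.mem_top b))
    rintro _ (⟨r, rfl⟩ | ⟨e, rfl⟩)
    · exact ⟨(SymAlgLib.symAlg (∐ F)).str.app _ r,
        ConcreteCategory.congr_hom (NatTrans.congr_app ψ.comm (op (U s).1)) r⟩
    · refine ⟨(SymAlgLib.gen (∐ F)).app _ e, ?_⟩
      rw [← hψ]
      rfl
  have := RelVALib.isIso_toRelSpec f
  refine ⟨_, _, RelVALib.toRelSpec f ≫ RelSpec.QCAlg.specMap ψ, SymAlgLib.isSymAlg_symAlg (∐ F),
    inferInstance, ?_⟩
  rw [Category.assoc, RelSpec.QCAlg.specMap_π, RelVALib.toRelSpec_π]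

/-- A section over a quasi-compact open of a direct sum comes from a finite subsum. -/
theorem exists_finite_subsum {κ : Type u} (F : κ → X.Modules) {U : X.Opens} (hU : IsCompact (U : Set X))
    (x : Γ(∐ F, U)) : ∃ t : Finset κ, ∀ t' : Finset κ, t ⊆ t' →
      ∃ y : Γ(∐ fun k : t' => F k.1, U), (Sigma.desc fun k : t' => Sigma.ι F k.1).app U y = x := by
  classical
  obtain ⟨t, ht⟩ := DQCoh.sumFac_freeModOn F hU ((Coherent.freeModOnEquiv U (∐ F)).symm x)
  refine ⟨t, fun t' h => ?_⟩
  have hx : (DQCoh.subSum F t').app U x = x := by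
    have := congrArg (Coherent.freeModOnEquiv U (∐ F)) (DQCoh.comp_subSum_of_subset F ht h)
    rwa [Coherent.freeModOnEquiv_comp, Equiv.apply_symm_apply] at this
  let r : ∐ F ⟶ ∐ fun k : t' => F k.1 :=
    Sigma.desc fun k => if hk : k ∈ t' then Sigma.ι (fun k : t' => F k.1) ⟨k, hk⟩ else 0
  have hr : r ≫ (Sigma.desc fun k : t' => Sigma.ι F k.1) = DQCoh.subSum F t' := by
    refine Sigma.hom_ext _ _ fun k => ?_
    rw [DQCoh.ι_subSum, Sigma.ι_desc_assoc]
    split_ifs with hk
    · exact Sigma.ι_desc (fun k : t' => Sigma.ι F k.1) ⟨k, hk⟩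
    · exact zero_comp
  refine ⟨r.app U x, ?_⟩
  rw [← hr, Scheme.Modules.Hom.comp_app] at hx
  exact hx

end embed

section snd

open TrivSqZeroExt

variable (M : X.Modules) [Coh.IsQCoh M]

def sndAb : (SplitRibbon7.alg M).toAb ⟶ M.presheaf where
  app U := AddCommGrpCat.ofHom
    { toFun := fun x : SplitRibbon7.T M U.unop => x.snd
      map_zero' := rfl
      map_add' := fun _ _ => rfl }
  naturality U V i := by
    ext x
    exact SplitRibbon7.res_snd M i.unop.le x

def sndHom : (SplitRibbon7.alg M).toModule ⟶ M :=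
  ⟨letI := (SplitRibbon7.alg M).moduleSect
   PresheafOfModules.homMk (sndAb M) fun U r x => by
    show ((inl (show Γ(X, U.unop) from r) : SplitRibbon7.T M U.unop) * (show SplitRibbon7.T M U.unop from x)).snd =
      (show Γ(X, U.unop) from r) • (show SplitRibbon7.T M U.unop from x).snd
    rw [snd_mul, fst_inl, snd_inl, smul_zero, add_zero]⟩

theorem sndHom_app (U : X.Opens) (x : SplitRibbon7.T M U) : (sndHom M).app U x = x.snd := rfl

theorem exists_epi_of_embed {κ : Type u} (F : κ → X.Modules) (hF : ∀ k, Coh.IsQCoh (F k))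
    {B : RelSpec.QCAlg X} {φ : (∐ F) ⟶ B.toModule} (hB : RelSpec.IsSymAlg (∐ F) B φ)
    (c : (SplitRibbon7.alg M).spec ⟶ B.spec) [IsClosedImmersion c] (w : c ≫ B.π = (SplitRibbon7.alg M).π) :
    ∃ p : ∐ F ⟶ M, Epi p := by
  haveI : Coh.IsQCoh (∐ F) := isQCoh_sigma F hF
  let A := SplitRibbon7.alg M
  haveI := RelSpecLib.isIso_gammaMap A
  haveI := RelSpecLib.isIso_gammaMap B
  let ψ : B ⟶ A := ⟨inv B.gammaMap ≫ AffAlg.algHom B.π A.π c w ≫ A.gammaMap, by
    conv_lhs => rw [← B.π_c_gammaMap]
    rw [Category.assoc, IsIso.hom_inv_id_assoc, ← Category.assoc, AffAlg.algHom_comm]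
    exact A.π_c_gammaMap⟩
  let p : ∐ F ⟶ M := φ ≫ RelSpec.QCAlg.Hom.toModuleMap ψ ≫ sndHom M
  have hp : ∀ {U : X.Opens}, IsAffineOpen U → Function.Surjective (p.app U) := by
    intro U hU m
    have hsur : Function.Surjective (ψ.hom.app (op U)).hom := by
      show Function.Surjective ((inv B.gammaMap).app (op U) ≫ (AffAlg.algHom B.π A.π c w).app (op U) ≫
        A.gammaMap.app (op U)).hom
      simp only [CommRingCat.hom_comp, RingHom.coe_comp]
      exact ((ConcreteCategory.bijective_of_isIso (A.gammaMap.app (op U))).2.comp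
        ((ProjLib.algHom_app_surjective_iff B.π A.π c w U).2 (c.app_surjective _ (hU.preimage B.π)))).comp
        (ConcreteCategory.bijective_of_isIso ((inv B.gammaMap).app (op U))).2
    let R : Submodule Γ(X, U) Γ(M, U) := LinearMap.range (appLin p U)
    let S : Subring (SplitRibbon7.T M U) :=
      { carrier := {x | x.snd ∈ R}
        one_mem' := R.zero_mem
        zero_mem' := R.zero_mem
        neg_mem' := fun {a} ha => R.neg_mem ha
        add_mem' := fun {a b} ha hb => R.add_mem ha hb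
        mul_mem' := fun {a b} ha hb => by
          show (a * b).snd ∈ R
          rw [snd_mul, op_smul_eq_smul]
          exact R.add_mem (R.smul_mem _ hb) (R.smul_mem _ ha) }
    obtain ⟨b, hb⟩ := hsur (inr m : SplitRibbon7.T M U)
    have : b ∈ S.comap (ψ.hom.app (op U)).hom := by
      refine (Subring.closure_le (t := S.comap (ψ.hom.app (op U)).hom)).2 ?_
        ((SymAlgLib.closure_eq_top hB hU).ge (Subring.mem_top b))
      rintro _ (⟨r, rfl⟩ | ⟨e, rfl⟩)
      · have h1 : ψ.hom.app (op U) (B.str.app (op U) r) = A.str.app (op U) r :=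
          ConcreteCategory.congr_hom (NatTrans.congr_app ψ.comm (op U)) r
        show (show SplitRibbon7.T M U from ψ.hom.app (op U) (B.str.app (op U) r)).snd ∈ R
        rw [h1]
        exact R.zero_mem
      · exact ⟨e, rfl⟩
    change (show SplitRibbon7.T M U from ψ.hom.app (op U) b).snd ∈ R at this
    rw [hb] at this
    rw [snd_inr] at this
    exact this
  refine ⟨p, Coherent.epi_of_locally_surjective p fun W a y hy => ?_⟩
  obtain ⟨U, hU, hyU, hUW⟩ := exists_isAffineOpen_mem_and_subset (x := y) (U := W) hy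
  exact ⟨U, hUW, hyU, hp hU _⟩

end snd

end Groth.Agent.ResGen7
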